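import Cfsg.Agent.H36.SUOdd.Top
import Cfsg.Prelude.Def_GeometricClasses

/-!
Non-degenerate decomposition stabilisers are maximal in `SU`, in odd dimension.
-/

set_option autoImplicit false
open Cfsg

namespace Cfsg.Agent.H36.SUOdd

open scoped MatrixGroups Matrix
open Matrix Cfsg.Agent.H95 Cfsg.Agent.Symplectic
open Cfsg.Agent.H63.UDec hiding no_two gOne_of_unit gOne_of_swap gOne_odd gOne_even exists_zero exists_utIn shrink four_all utIn_all_two top

/-- Non-degenerate decompositions in odd dimension. -/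
theorem isMaximalIn_dec {F : Type*} [Field F] [Fintype F] (n q : ℕ) (hF : Fintype.card F = q ^ 2) (hn : 5 ≤ n) (hodd : Odd n) {t : ℕ} (k : ℕ) (D : Fin t → Submodule F (Fin n → F)) (hD : Cfsg.Geo.IsNondegenerateMDecomposition (Cfsg.hermForm n F q) k D) (hμ : k = 1 → 3 ≤ q → 7 ≤ n ∧ ∃ μ : F, μ * μ ^ q = 1 ∧ μ ^ n ≠ 1) : Cfsg.Geo.IsMaximalIn (Cfsg.GU n F q ⊓ Cfsg.Geo.specialLinear (Fin n) F) (Cfsg.Geo.decompositionStabilizer D ⊓ (Cfsg.GU n F q ⊓ Cfsg.Geo.specialLinear (Fin n) F)) := by
  classical
  obtain ⟨σ, hσ, hf⟩ := isUnitaryForm_hermForm (n := n) hF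
  have ht := hD.decomp.two_le
  have hk0 := hD.decomp.pos
  have hk := hD.decomp.finrank_eq
  have hnd : ∀ i, Unitary.Nondeg q (D i) := fun i u hu h => by
    by_contra hu0
    obtain ⟨x, hx, hux⟩ := (hD.nondegenerate i u hu hu0).2
    exact hux (h x hx)
  have hbasis : ∀ i, ∃ b : Fin k → Fin n → F, Unitary.ON q b ∧ Submodule.span F (Set.range b) = D i :=
    fun i => by
      obtain ⟨b, hb, hs⟩ := Unitary.exists_ON_basis hF (D i) (hnd i)
      refine ⟨b ∘ finCongr (hk i).symm, fun x y => ?_, by
        rw [Set.range_comp, (finCongr (hk i).symm).surjective.range_eq, Set.image_univ, hs]⟩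
      simp only [Function.comp]
      rw [hb]
      simp only [(finCongr (hk i).symm).injective.eq_iff]
  choose b hb hbs using hbasis
  have hbD : ∀ i j, b i j ∈ D i := fun i j => by
    rw [← hbs i]; exact Submodule.subset_span ⟨j, rfl⟩
  set bb : Fin t × Fin k → Fin n → F := fun p => b p.1 p.2
  have hbb : Unitary.ON q bb := by
    rintro ⟨i, x⟩ ⟨j, y⟩
    rcases eq_or_ne i j with rfl | hij
    · simp only [bb, hb i x y, Prod.mk.injEq, true_and]
    · simp only [bb, Prod.mk.injEq, hij, false_and, if_false]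
      exact hD.orthogonal i j hij _ (hbD i x) _ (hbD j y)
  have hspan : Submodule.span F (Set.range bb) = ⊤ := by
    rw [eq_top_iff, ← hD.decomp.iSup_eq_top, iSup_le_iff]
    intro i
    rw [← hbs i]
    refine Submodule.span_mono ?_
    rintro _ ⟨j, rfl⟩
    exact ⟨(i, j), rfl⟩
  have hcard : Fintype.card (Fin t × Fin k) = n := by
    rw [← hbb.finrank_span, hspan, finrank_top, Module.finrank_fin_fun]
  set e : Fin t × Fin k ≃ Fin n := Fintype.equivFinOfCardEq hcard
  set blk : Fin n → Fin t := fun i => (e.symm i).1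
  obtain ⟨⟨P, hP⟩, hPe⟩ := Unitary.exists_GU_of_ON hF (f := bb ∘ e.symm) (fun i j => by
    simp only [Function.comp]
    rw [hbb]
    simp only [e.symm.injective.eq_iff])
  simp only [Function.comp] at hPe
  set I := Cfsg.GU n F q ⊓ Cfsg.Geo.specialLinear (Fin n) F
  set S := Cfsg.Geo.decompositionStabilizer D ⊓ I
  have hPi : P ∈ isoGrp (Cfsg.hermForm n F q) := hP
  have hIG : ∀ h, h ∈ I → h ∈ isoGrp (Cfsg.hermForm n F q) ⊓ Geo.specialLinear (Fin n) F :=
    fun h hh => hh
  have hconj : ∀ h, h ∈ I → P * h * P⁻¹ ∈ I ∧ P⁻¹ * h * P ∈ I := by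
    intro h hh
    have h1 : Matrix.GeneralLinearGroup.det h = 1 := hh.2
    refine ⟨⟨Subgroup.mul_mem _ (Subgroup.mul_mem _ hP hh.1) (Subgroup.inv_mem _ hP), ?_⟩,
      ⟨Subgroup.mul_mem _ (Subgroup.mul_mem _ (Subgroup.inv_mem _ hP) hh.1) hP, ?_⟩⟩
    · show Matrix.GeneralLinearGroup.det (P * h * P⁻¹) = 1
      rw [map_mul, map_mul, map_inv, h1, mul_one, mul_inv_cancel]
    · show Matrix.GeneralLinearGroup.det (P⁻¹ * h * P) = 1
      rw [map_mul, map_mul, map_inv, h1, mul_one, inv_mul_cancel]
  -- membership from a block map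
  have hmemS : ∀ h, h ∈ I → ∀ π, BlockMap blk h π → P * h * P⁻¹ ∈ S := by
    intro h hh π hπ
    refine ⟨⟨π, fun i => ?_⟩, (hconj h hh).1⟩
    refine Submodule.eq_of_le_of_finrank_eq ?_ ?_
    · conv_lhs => rw [← hbs i]
      rw [Submodule.map_span, Submodule.span_le]
      rintro _ ⟨_, ⟨j, rfl⟩, rfl⟩
      rw [Matrix.toLin'_apply, show b i j = (P : Matrix (Fin n) (Fin n) F) *ᵥ Pi.single (e (i, j)) 1
        by rw [hPe, Equiv.symm_apply_apply], mul_mulVec, mul_mulVec, inv_mulVec_mulVec,
        pi_eq_sum_univ' ((h : Matrix (Fin n) (Fin n) F) *ᵥ Pi.single (e (i, j)) 1), Matrix.mulVec_sum]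
      refine Submodule.sum_mem _ fun m _ => ?_
      rw [Matrix.mulVec_smul, hPe]
      rcases eq_or_ne (((h : Matrix (Fin n) (Fin n) F) *ᵥ Pi.single (e (i, j)) 1) m) 0 with h0 | h0
      · rw [h0, zero_smul]; exact Submodule.zero_mem _
      · have hm := hπ _ m h0
        simp only [blk, Equiv.symm_apply_apply] at hm
        refine Submodule.smul_mem _ _ ?_
        rw [← hm]
        exact hbD _ _
    · rw [← (Submodule.equivMapOfInjective _ (fun x y hxy =>
        gl_mulVec_injective (P * h * P⁻¹) (by simpa [Matrix.mul_assoc] using hxy)) (D i)).finrank_eq, hk, hk]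
  refine ⟨lt_of_le_of_ne inf_le_right fun hEq => ?_, fun M hSM hMG => ?_⟩
  · -- a transvection at a vector in two blocks
    set i0 : Fin t := ⟨0, by omega⟩
    set i1 : Fin t := ⟨1, by omega⟩
    have hne : i0 ≠ i1 := by simp [i0, i1]
    set x0 := b i0 ⟨0, hk0⟩
    set x1 := b i1 ⟨0, hk0⟩
    obtain ⟨c, hc⟩ := Unitary.exists_norm_eq_neg_one hF
    rw [← hσ] at hc
    have h00 : Cfsg.hermForm n F q x0 x0 = 1 := by simp [x0, hb i0 _ _]
    have h11 : Cfsg.hermForm n F q x1 x1 = 1 := by simp [x1, hb i1 _ _]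
    have h01 : Cfsg.hermForm n F q x0 x1 = 0 := hD.orthogonal _ _ hne _ (hbD _ _) _ (hbD _ _)
    have h10 := u_symm_zero hf h01
    set v := x0 + c • x1
    have hvv : Cfsg.hermForm n F q v v = 0 := by
      simp only [v, u_add_left hf, u_add_right hf, u_smul_left hf, u_smul_right hf, h00, h11, h01, h10]
      linear_combination hc
    obtain ⟨d, hd0, hd⟩ := exists_skew_ne_zero hf
    have hS : ut hf v d ∈ S := hEq.symm ▸ (⟨ut_mem_iso hf hvv hd, ut_mem_sl hf v d⟩ : ut hf v d ∈ I)
    obtain ⟨π, hπ⟩ := hS.1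
    have himg : x0 + d • v ∈ D (π i0) := by
      rw [← hπ]
      refine ⟨x0, hbD _ _, ?_⟩
      rw [Matrix.toLin'_apply, ut_mulVec hf hvv]
      simp only [v, u_add_right hf, u_smul_right hf, h00, h01]
      simp
    have hc0 : c ≠ 0 := by rintro rfl; simp at hc
    rcases eq_or_ne (π i0) i1 with he | he
    · -- orthogonal to the first block
      rw [he] at himg
      have e0 := hD.orthogonal _ _ hne x0 (hbD _ _) _ himg
      simp only [v, u_add_right hf, u_smul_right hf, h00, h01] at e0
      have hd1 : σ d = -1 := by linear_combination e0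
      rw [hd, neg_inj] at hd1
      have hd' := congrArg σ hd1
      rw [hd, map_one, hd1] at hd'
      have h2 : (2 : F) = 0 := by linear_combination -hd'
      -- then `d` may be scaled
      have hk1 : k = 1 ∨ 2 ≤ k := by omega
      rcases hk1 with hk1 | hk2
      · -- a second coordinate stays
        obtain ⟨i2, hi20, hi21⟩ : ∃ i2 : Fin t, i2 ≠ i0 ∧ i2 ≠ i1 := by
          have htn : t * k = n := by simpa using hcard
          rw [hk1, mul_one] at htn
          exact ⟨⟨2, by omega⟩, by simp [i0, Fin.ext_iff], by simp [i1, Fin.ext_iff]⟩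
        set x2 := b i2 ⟨0, hk0⟩
        have h22 : Cfsg.hermForm n F q x2 x2 = 1 := by simp [x2, hb i2 _ _]
        have h02 : Cfsg.hermForm n F q x0 x2 = 0 := hD.orthogonal _ _ (Ne.symm hi20) _ (hbD _ _) _ (hbD _ _)
        have h12 : Cfsg.hermForm n F q x1 x2 = 0 := hD.orthogonal _ _ (Ne.symm hi21) _ (hbD _ _) _ (hbD _ _)
        -- a vector on four blocks
        obtain ⟨i3, hi30, hi31, hi32⟩ : ∃ i3 : Fin t, i3 ≠ i0 ∧ i3 ≠ i1 ∧ i3 ≠ i2 := by
          obtain ⟨i3, -, hi3⟩ := Finset.exists_mem_notMem_of_card_lt_card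
            (s := ({i0, i1, i2} : Finset (Fin t))) (t := Finset.univ) (by
              have htn : t * k = n := by simpa using hcard
              rw [hk1, mul_one] at htn
              rw [Finset.card_univ, Fintype.card_fin]
              exact lt_of_le_of_lt Finset.card_le_three (by omega))
          simp only [Finset.mem_insert, Finset.mem_singleton, not_or] at hi3
          exact ⟨i3, hi3⟩
        set x3 := b i3 ⟨0, hk0⟩
        have h33 : Cfsg.hermForm n F q x3 x3 = 1 := by simp [x3, hb i3 _ _]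
        have h03 : Cfsg.hermForm n F q x0 x3 = 0 := hD.orthogonal _ _ (Ne.symm hi30) _ (hbD _ _) _ (hbD _ _)
        have h13 : Cfsg.hermForm n F q x1 x3 = 0 := hD.orthogonal _ _ (Ne.symm hi31) _ (hbD _ _) _ (hbD _ _)
        have h23 : Cfsg.hermForm n F q x2 x3 = 0 := hD.orthogonal _ _ (Ne.symm hi32) _ (hbD _ _) _ (hbD _ _)
        set u := x0 + x1 + x2 + x3
        have huu : Cfsg.hermForm n F q u u = 0 := by
          simp only [u, u_add_left hf, u_add_right hf, h00, h11, h22, h33, h01, h10, h02, h03, h12,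
            h13, h23, u_symm_zero hf h02, u_symm_zero hf h03, u_symm_zero hf h12, u_symm_zero hf h13,
            u_symm_zero hf h23]
          linear_combination 2 * h2
        have hS2 : ut hf u d ∈ S :=
          hEq.symm ▸ (⟨ut_mem_iso hf huu hd, ut_mem_sl hf u d⟩ : ut hf u d ∈ I)
        obtain ⟨π', hπ'⟩ := hS2.1
        have himg' : x0 + d • u ∈ D (π' i0) := by
          rw [← hπ']
          refine ⟨x0, hbD _ _, ?_⟩
          rw [Matrix.toLin'_apply, ut_mulVec hf huu]
          simp only [u, u_add_right hf, h00, h01, h02, h03]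
          simp
        rcases eq_or_ne (π' i0) i1 with he' | he'
        · rw [he'] at himg'
          have e2 := hD.orthogonal _ _ hi21 x2 (hbD _ _) _ himg'
          simp only [u, u_add_right hf, u_smul_right hf, h22, h23, u_symm_zero hf h02,
            u_symm_zero hf h12] at e2
          apply hd0
          apply (map_eq_zero_iff σ σ.injective).1
          linear_combination e2
        · have e1 := hD.orthogonal _ _ (Ne.symm he') x1 (hbD _ _) _ himg'
          simp only [u, u_add_right hf, u_smul_right hf, h11, h12, h13, h10] at e1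
          apply hd0
          apply (map_eq_zero_iff σ σ.injective).1
          linear_combination e1
      · -- another vector of the first block
        set y0 := b i0 ⟨1, by omega⟩
        have hy : Cfsg.hermForm n F q x0 y0 = 0 := by simp [x0, y0, hb i0 _ _]
        have hy1 : Cfsg.hermForm n F q y0 x1 = 0 := hD.orthogonal _ _ hne _ (hbD _ _) _ (hbD _ _)
        have himgy : y0 ∈ D (π i0) := by
          rw [← hπ]
          refine ⟨y0, hbD _ _, ?_⟩
          rw [Matrix.toLin'_apply, ut_mulVec hf hvv]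
          simp only [v, u_add_right hf, u_smul_right hf, hy1, u_symm_zero hf hy]
          simp
        rw [he] at himgy
        have := hD.orthogonal _ _ hne y0 (hbD _ _) y0 himgy
        simp [y0, hb i0 _ _] at this
    · have e1 := hD.orthogonal _ _ (Ne.symm he) x1 (hbD _ _) _ himg
      simp only [v, u_add_right hf, u_smul_right hf, h10, h11] at e1
      have : σ d * σ c = 0 := by linear_combination e1
      rcases mul_eq_zero.1 this with h | h
      · exact hd0 ((map_eq_zero_iff σ σ.injective).1 h)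
      · exact hc0 ((map_eq_zero_iff σ σ.injective).1 h)
  by_cases hM : M ≤ S
  · exact Or.inl (le_antisymm hM hSM)
  obtain ⟨g, hgM, hgS⟩ := SetLike.not_le_iff_exists.1 hM
  right
  refine le_antisymm hMG ?_
  set M' := M.comap (MulAut.conj P).toMonoidHom
  have hM' : ∀ h, h ∈ M' ↔ P * h * P⁻¹ ∈ M := fun h => Iff.rfl
  have hM'G : M' ≤ isoGrp (Cfsg.hermForm n F q) ⊓ Geo.specialLinear (Fin n) F := fun h hh => by
    have := (hconj _ (hMG ((hM' h).1 hh))).2
    simp only [← mul_assoc, inv_mul_cancel, one_mul, inv_mul_cancel_right] at this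
    exact this
  have hblocks : HasBlocks (Cfsg.hermForm n F q) blk M' := fun h hh π hπ =>
    (hM' h).2 (hSM (hmemS h hh π hπ))
  have hg' : P⁻¹ * g * P ∈ M' := by
    rw [hM']
    convert hgM using 1
    group
  have hgb : ∀ π, ¬ BlockMap blk (P⁻¹ * g * P) π := fun π hπ => hgS (by
    convert hmemS _ (hconj g (hMG hgM)).2 π hπ using 1
    group)
  have htop := top hf hF hσ hn hodd ht e (by simpa only [← hσ] using hμ) hM'G hblocks hg' hgb
  intro h hh
  have := (hM' _).1 (htop (hconj h hh).2)
  convert this using 1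
  group

end Cfsg.Agent.H36.SUOdd
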