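import Cfsg.Agent.H36.SUOdd.Dec

/-!
The stabiliser of a frame of non-degenerate lines is maximal in `SU` for prime dimension at least seven.
-/

set_option autoImplicit false
open Cfsg

namespace Cfsg.Agent.H36.SUOdd

/-- In prime dimension some norm one scalar is not an `n`-th root of one, unless `n = q + 1`. -/
theorem exists_unit {F : Type*} [Field F] [Fintype F] (n q : ℕ) (hF : Fintype.card F = q ^ 2)
    (hn : n.Prime) (hne : n ≠ q + 1) : ∃ μ : F, μ * μ ^ q = 1 ∧ μ ^ n ≠ 1 := by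
  classical
  by_contra hcon
  push Not at hcon
  have hq := Unitary.two_le_q hF
  have hd : q + 1 ∣ n := by
    rw [← Unitary.card_ker_pow hF]
    have hd' : ∀ g : (powMonoidHom (q + 1) : Fˣ →* Fˣ).ker, g ^ n = 1 := fun g => by
      refine Subtype.ext (Units.ext ?_)
      have h := g.2
      rw [MonoidHom.mem_ker, powMonoidHom_apply, Units.ext_iff, Units.val_pow_eq_pow_val, pow_succ',
        Units.val_one] at h
      simpa using hcon _ h
    rw [← IsCyclic.exponent_eq_card]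
    exact Monoid.exponent_dvd_of_forall_pow_eq_one hd'
  rcases (Nat.dvd_prime hn).1 hd with h | h <;> omega

/-- The stabiliser of a frame of non-degenerate lines is maximal. -/
theorem isMaximalIn_frame {F : Type*} [Field F] [Fintype F] (n q : ℕ) (hF : Fintype.card F = q ^ 2)
    (hp : n.Prime) (hn : 7 ≤ n) (hne : n ≠ q + 1) (D : Fin n → Submodule F (Fin n → F))
    (hD : Cfsg.Geo.IsNondegenerateMDecomposition (Cfsg.hermForm n F q) 1 D) :
    Cfsg.Geo.IsMaximalIn (Cfsg.GU n F q ⊓ Cfsg.Geo.specialLinear (Fin n) F)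
      (Cfsg.Geo.decompositionStabilizer D ⊓ (Cfsg.GU n F q ⊓ Cfsg.Geo.specialLinear (Fin n) F)) :=
  isMaximalIn_dec n q hF (by omega) (hp.odd_of_ne_two (by omega)) 1 D hD
    fun _ _ => ⟨hn, exists_unit n q hF hp hne⟩

/-- The stabiliser of a frame of non-degenerate lines is maximal in dimension seven. -/
theorem isMaximalIn_frame_seven {F : Type*} [Field F] [Fintype F] (q : ℕ) (hF : Fintype.card F = q ^ 2)
    (D : Fin 7 → Submodule F (Fin 7 → F))
    (hD : Cfsg.Geo.IsNondegenerateMDecomposition (Cfsg.hermForm 7 F q) 1 D) :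
    Cfsg.Geo.IsMaximalIn (Cfsg.GU 7 F q ⊓ Cfsg.Geo.specialLinear (Fin 7) F)
      (Cfsg.Geo.decompositionStabilizer D ⊓ (Cfsg.GU 7 F q ⊓ Cfsg.Geo.specialLinear (Fin 7) F)) := by
  refine isMaximalIn_frame 7 q hF (by norm_num) le_rfl (fun h => ?_) D hD
  have hq : q = 6 := by omega
  subst hq
  obtain ⟨p, hc⟩ := CharP.exists F
  have hp : p.Prime := CharP.char_is_prime F p
  obtain ⟨a, -, ha⟩ := FiniteField.card F p
  rw [hF] at ha
  have h2 := (Nat.prime_dvd_prime_iff_eq Nat.prime_two hp).1 (Nat.prime_two.dvd_of_dvd_pow (ha ▸ (by norm_num : 2 ∣ 6 ^ 2)))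
  have h3 := (Nat.prime_dvd_prime_iff_eq Nat.prime_three hp).1 (Nat.prime_three.dvd_of_dvd_pow (ha ▸ (by norm_num : 3 ∣ 6 ^ 2)))
  omega

/-- The stabiliser of a frame of non-degenerate lines is maximal in dimension eleven. -/
theorem isMaximalIn_frame_eleven {F : Type*} [Field F] [Fintype F] (q : ℕ) (hF : Fintype.card F = q ^ 2)
    (D : Fin 11 → Submodule F (Fin 11 → F))
    (hD : Cfsg.Geo.IsNondegenerateMDecomposition (Cfsg.hermForm 11 F q) 1 D) :
    Cfsg.Geo.IsMaximalIn (Cfsg.GU 11 F q ⊓ Cfsg.Geo.specialLinear (Fin 11) F)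
      (Cfsg.Geo.decompositionStabilizer D ⊓ (Cfsg.GU 11 F q ⊓ Cfsg.Geo.specialLinear (Fin 11) F)) := by
  refine isMaximalIn_frame 11 q hF (by norm_num) (by norm_num) (fun h => ?_) D hD
  have hq : q = 10 := by omega
  subst hq
  obtain ⟨p, hc⟩ := CharP.exists F
  have hp : p.Prime := CharP.char_is_prime F p
  obtain ⟨a, -, ha⟩ := FiniteField.card F p
  rw [hF] at ha
  have h2 := (Nat.prime_dvd_prime_iff_eq Nat.prime_two hp).1 (Nat.prime_two.dvd_of_dvd_pow (ha ▸ (by norm_num : 2 ∣ 10 ^ 2)))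
  have h5 := (Nat.prime_dvd_prime_iff_eq (by norm_num : Nat.Prime 5) hp).1 ((by norm_num : Nat.Prime 5).dvd_of_dvd_pow (ha ▸ (by norm_num : 5 ∣ 10 ^ 2)))
  omega

end Cfsg.Agent.H36.SUOdd
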