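import Cfsg.Agent.H36.SUOdd.Zero
import Cfsg.Agent.H58.SUSmall.Refl

/-!
A transvection with a zero coordinate in an overgroup of the monomial group, in odd dimension at least seven.
-/

set_option autoImplicit false

namespace Cfsg.Agent.H36.SUOdd

open scoped MatrixGroups Matrix
open Finset Matrix Cfsg Cfsg.Agent.H95 Cfsg.Agent.Symplectic
open Cfsg.Agent.H63.UDec hiding no_two gOne_of_unit exists_zero exists_utIn gOne_odd gOne_even
open Cfsg.Agent.H58.SUSmall (no_two gOne_of_unit utIn_of_refl_zero)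

variable {F : Type*} [Field F] [Fintype F] {n q : ℕ} {σ : F ≃+* F} {M : Subgroup (GL (Fin n) F)}

omit [Fintype F] in
/-- In odd characteristic some norm one scalar is not an `n`-th root of one. -/
theorem exists_unit_of_odd (hσ : ∀ x, σ x = x ^ q) (hodd : Odd n) (h2 : (2 : F) ≠ 0) :
    ∃ μ : F, μ * σ μ = 1 ∧ μ ^ n ≠ 1 :=
  ⟨-1, by simp, fun h => h2 (by rw [hodd.neg_one_pow] at h; linear_combination -h)⟩

/-- A non-monomial element gives a transvection with a zero coordinate. -/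
theorem exists_utIn (hf : Geo.IsUnitaryForm σ (hermForm n F q)) (hF : Fintype.card F = q ^ 2)
    (hσ : ∀ x, σ x = x ^ q) (hq : 3 ≤ q) {m : ℕ} (hm : 3 ≤ m) (hnm : n = m * 2 + 1)
    (hμ : ∃ μ : F, μ * σ μ = 1 ∧ μ ^ n ≠ 1)
    (hM : M ≤ isoGrp (hermForm n F q)) (hph : Phases σ M) (hS : HasMon (hermForm n F q) M)
    {g : GL (Fin n) F} (hg : g ∈ M) (hg' : ¬ Mon g) :
    ∃ r : Fin n → F, r ≠ 0 ∧ hermForm n F q r r = 0 ∧ (∃ z, r z = 0) ∧ UtIn hf M r := by
  have h1 : GOne M := by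
    by_contra hno
    obtain ⟨y, hy, hy', j, z, hjz⟩ := exists_zero hf hF hσ hm hnm hM hS hg hg'
    obtain ⟨μ, hμ, hμn⟩ := hμ
    exact hno (gOne_of_unit hf hσ (by omega) hM hph hy
      (no_two hf hF hσ hq (by omega) hM hph hno (M.inv_mem hy) fun h => hy' (mon_inv hf hσ (hM hy) h))
      hjz hμ hμn)
  obtain ⟨u, z, huz, huu, hu2, hR⟩ := refl_of_gOne hσ hM hph hf h1
  obtain ⟨u, a, b, c, z, hab, hac, hbc, ha, hb, hc, huz, huu, hR⟩ :=
    refl_three hF hq hσ (by omega) hS hf huz huu hu2 hR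
  obtain ⟨r, hr0, hrr, hrz, hrU⟩ :=
    utIn_of_refl_zero (hf := hf) hF hq hσ hph hM hab hac hbc ha hb hc huz huu hR
  exact ⟨r, hr0, hrr, ⟨z, hrz⟩, hrU⟩

end Cfsg.Agent.H36.SUOdd
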