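import Cfsg.Agent.H58.SUSmall.UTwo

/-!
Overgroups over the field with four elements, in odd dimension at least five.
-/

set_option autoImplicit false

namespace Cfsg.Agent.H36.SUOdd

open scoped MatrixGroups Matrix
open Finset Matrix Cfsg Cfsg.Agent.H95 Cfsg.Agent.Symplectic
open Cfsg.Agent.H63.UDec hiding shrink four_all utIn_all_two top
open Cfsg.Agent.H58.SUSmall (four_all utIn_four)

variable {F : Type*} [Field F] [Fintype F] {n q : ℕ} {σ : F ≃+* F}
  {hf : Geo.IsUnitaryForm σ (hermForm n F q)} {M : Subgroup (GL (Fin n) F)}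

variable (hF : Fintype.card F = q ^ 2) (hq : q = 2) (hσ : ∀ x, σ x = x ^ q)

include hF hq hσ

variable (hM : M ≤ isoGrp (hermForm n F q)) (hph : Phases σ M)

include hM hph

/-- Shrinking to four coordinates. -/
theorem shrink (hn : 5 ≤ n) (hodd : Odd n) {P Q : Fin n} (hPQ : P ≠ Q) :
    ∀ (s : ℕ) (x : Fin n → F), #(sp x) = s → 4 ≤ s → hermForm n F q x x = 0 → UtIn hf M x →
      P ∈ sp x → Q ∈ sp x →
      ∃ y : Fin n → F, hermForm n F q y y = 0 ∧ UtIn hf M y ∧ #(sp y) = 4 ∧ P ∈ sp y ∧ Q ∈ sp y := by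
  classical
  intro s
  induction s using Nat.strong_induction_on with
  | _ s ih =>
  intro x hs h4 hxx hU hP hQ
  obtain ⟨r, hr⟩ := hs ▸ even_sp hF hq hσ hxx
  rcases eq_or_lt_of_le h4 with h | h
  · exact ⟨x, hxx, hU, by omega, hP, hQ⟩
  have hrest : #((sp x).erase P |>.erase Q) = s - 2 := by
    rw [card_erase_of_mem (mem_erase.2 ⟨hPQ.symm, hQ⟩), card_erase_of_mem hP, hs]; rfl
  have next : ∀ (A U : Finset (Fin n)), A ∩ sp x = {P} → U ⊆ ((sp x).erase P).erase Q →
      Disjoint A U → Even #U → 2 * #A + #U = 6 → 0 < #U → #U + 4 ≤ s →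
      ∃ y : Fin n → F, hermForm n F q y y = 0 ∧ UtIn hf M y ∧ #(sp y) = 4 ∧ P ∈ sp y ∧ Q ∈ sp y := by
    intro A U hA hUs hAU hUe hc hpos hle
    have hU' : U ⊆ sp x := hUs.trans ((erase_subset _ _).trans (erase_subset _ _))
    have hQU : Q ∉ U := fun h => (mem_erase.1 (hUs h)).1 rfl
    have hPU : P ∉ U := fun h => (mem_erase.1 (mem_of_mem_erase (hUs h))).1 rfl
    obtain ⟨y, hyy, hy, hsy⟩ := remove hF hq hσ hM hph hxx hU hP hQ hPQ hA hU' hAU hQU hUe hc
    have hcy : #(sp y) = s - #U := by rw [hsy, card_sdiff_of_subset hU', hs]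
    exact ih _ (by omega) y hcy (by omega) hyy hy (by rw [hsy]; exact Finset.mem_sdiff.2 ⟨hP, hPU⟩)
      (by rw [hsy]; exact Finset.mem_sdiff.2 ⟨hQ, hQU⟩)
  by_cases he : ∃ e, e ∉ sp x
  · obtain ⟨e, he⟩ := he
    obtain ⟨U, hUs, hUc⟩ := exists_subset_card_eq (n := 2)
      (show 2 ≤ #(((sp x).erase P).erase Q) by omega)
    refine next {P, e} U ?_ hUs ?_ (hUc ▸ even_two) ?_ (by omega) (by omega)
    · ext i
      simp only [mem_inter, mem_insert, Finset.mem_singleton]
      constructor
      · rintro ⟨h1 | h1, h2⟩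
        · exact h1
        · exact absurd (h1 ▸ h2) he
      · rintro rfl; exact ⟨Or.inl rfl, hP⟩
    · rw [disjoint_insert_left, disjoint_singleton_left]
      exact ⟨fun h => (mem_erase.1 (mem_of_mem_erase (hUs h))).1 rfl,
        fun h => he (mem_of_mem_erase (mem_of_mem_erase (hUs h)))⟩
    · rw [card_pair (fun h : P = e => he (h ▸ hP)), hUc]
  · push Not at he
    exfalso
    obtain ⟨w, hw⟩ := hodd
    have hsn : s = n := by
      rw [← hs, Finset.eq_univ_iff_forall.2 he, card_univ, Fintype.card_fin]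
    omega

/-- All isotropic vectors. -/
theorem utIn_all_two (hn : 5 ≤ n) (hodd : Odd n) (hall : ∀ a b : Fin n, a ≠ b → Pair hf M a b) {g : GL (Fin n) F}
    (hg : g ∈ M) {a : Fin n} (ha : 2 ≤ #(sp ((g : Matrix (Fin n) (Fin n) F) *ᵥ Pi.single a 1))) :
    ∀ x : Fin n → F, hermForm n F q x x = 0 → UtIn hf M x := by
  classical
  obtain ⟨h2, nz, ω, hω, hω0, hω1, hσω⟩ := four hF hq hσ
  set col : Fin n → Fin n → F := fun b => (g : Matrix (Fin n) (Fin n) F) *ᵥ Pi.single b 1
  obtain ⟨b, hba, hb⟩ : ∃ b, b ≠ a ∧ 4 ≤ #(sp (col a) ∪ sp (col b)) := by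
    by_contra h
    push Not at h
    obtain ⟨c, hca⟩ := exists_mem_ne (s := (univ : Finset (Fin n)))
      (by rw [card_univ, Fintype.card_fin]; omega) a
    have hA : #(sp (col a)) ≤ 3 := by
      have := h c hca.2
      have := card_le_card (subset_union_left (s₁ := sp (col a)) (s₂ := sp (col c)))
      omega
    have hco : Odd #(sp (col a)) := by
      have e : hermForm n F q (col a) (col a) = 1 := by
        rw [mem_isoGrp.1 (hM hg), herm_single_right' hσ, Pi.single_eq_same]
      rcases Nat.even_or_odd #(sp (col a)) with he | ho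
      · exfalso
        obtain ⟨r, hr⟩ := he
        rw [herm_sum hσ, ← sum_subset (subset_univ (sp (col a))) (fun i _ hi => by
          rw [notMem_sp.1 hi, zero_mul]), sum_congr rfl (fun i hi => nz _ (mem_sp.1 hi)), sum_const,
          hr, nsmul_eq_mul] at e
        push_cast at e
        exact one_ne_zero (α := F) (by linear_combination (r : F) * h2 - e)
      · exact ho
    have hA3 : #(sp (col a)) = 3 := by
      have : 2 ≤ #(sp (col a)) := ha
      obtain ⟨r, hr⟩ := hco
      omega
    have hsub : ∀ b, ∀ i, i ∉ sp (col a) → col b i = 0 := by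
      intro b i hi
      by_contra hne
      rcases eq_or_ne b a with rfl | hba
      · exact hi (mem_sp.2 hne)
      have := h b hba
      have h' : insert i (sp (col a)) ⊆ sp (col a) ∪ sp (col b) :=
        Finset.insert_subset (Finset.mem_union_right _ (mem_sp.2 hne)) subset_union_left
      have := card_le_card h'
      rw [card_insert_of_notMem hi] at this
      omega
    obtain ⟨i, -, hi⟩ := exists_mem_notMem_of_card_lt_card (s := sp (col a)) (t := univ)
      (by rw [card_univ, Fintype.card_fin]; omega)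
    have hrow : ∀ b, (g : Matrix (Fin n) (Fin n) F) i b = 0 := fun b => by
      rw [← mulVec_single_one_apply (g : Matrix (Fin n) (Fin n) F) b i]; exact hsub b i hi
    have := gl_entry_sum g i i
    simp [hrow] at this
  -- a vector of weight at least four
  have hv : ∀ θ : F, θ ≠ 0 → UtIn hf M (col a + θ • col b) ∧
      hermForm n F q (col a + θ • col b) (col a + θ • col b) = 0 := by
    intro θ hθ
    set v : Fin n → F := Pi.single a 1 + θ • Pi.single b 1
    have hsupp : ∀ i, i ≠ a → i ≠ b → v i = 0 := fun i h1 h2 => by simp [v, h1, h2]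
    have hvv : hermForm n F q v v = 0 := by
      rw [norm_two hσ hba.symm hsupp]
      simp [v, hba, hba.symm, nz θ hθ]
      linear_combination h2
    have e : col a + θ • col b = (g : Matrix (Fin n) (Fin n) F) *ᵥ v := by
      simp only [v, col, mulVec_add, mulVec_smul]
    rw [e]
    exact ⟨(hall a b hba.symm v hsupp hvv).conj hf hvv hg (hM hg), by rw [mem_isoGrp.1 (hM hg), hvv]⟩
  obtain ⟨θ, hθ, hbig⟩ : ∃ θ : F, θ ≠ 0 ∧ 2 < #(sp (col a + θ • col b)) := by
    by_contra h
    push Not at h
    set U := sp (col a) ∪ sp (col b)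
    set T : Finset F := {1, ω, ω * ω}
    have hT : #T = 3 := by
      rw [card_insert_of_notMem, card_pair]
      · exact fun h => hω1 ((mul_eq_right₀ hω0).1 h.symm)
      · simp only [mem_insert, Finset.mem_singleton, not_or]
        exact ⟨Ne.symm hω1, fun h => hω0 (by linear_combination hω + h - h2)⟩
    have hT0 : ∀ t ∈ T, t ≠ 0 := by
      intro t ht
      simp only [T, mem_insert, Finset.mem_singleton] at ht
      rcases ht with rfl | rfl | rfl
      · exact one_ne_zero
      · exact hω0
      · exact mul_ne_zero hω0 hω0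
    have key : ∀ i ∈ U, 2 ≤ #(T.filter fun t => i ∈ sp (col a + t • col b)) := by
      intro i hi
      have hz : #(T.filter fun t => i ∉ sp (col a + t • col b)) ≤ 1 := by
        refine card_le_one.2 fun t ht t' ht' => ?_
        simp only [mem_filter, notMem_sp, Pi.add_apply, Pi.smul_apply, smul_eq_mul] at ht ht'
        by_contra hne
        have hb0 : col b i = 0 := (mul_eq_zero.1 (show (t - t') * col b i = 0 by
          linear_combination ht.2 - ht'.2)).resolve_left (sub_ne_zero.2 hne)
        have ha0 : col a i = 0 := by simpa [hb0] using ht.2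
        simp [U, mem_sp, ha0, hb0] at hi
      have := card_filter_add_card_filter_not (s := T) (fun t => i ∈ sp (col a + t • col b))
      omega
    have h1 : 2 * #U ≤ ∑ t ∈ T, #(sp (col a + t • col b)) := by
      calc 2 * #U = ∑ i ∈ U, 2 := by rw [sum_const, smul_eq_mul, mul_comm]
        _ ≤ ∑ i ∈ U, #(T.filter fun t => i ∈ sp (col a + t • col b)) := sum_le_sum key
        _ = ∑ t ∈ T, #(U.filter fun i => i ∈ sp (col a + t • col b)) := by
          simp only [card_filter]; exact sum_comm
        _ ≤ _ := sum_le_sum fun t _ => card_le_card fun i hi => (mem_filter.1 hi).2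
    have h2' : ∑ t ∈ T, #(sp (col a + t • col b)) ≤ 3 * 2 := by
      rw [← hT]
      exact (sum_le_card_nsmul _ _ 2 fun t ht => h t (hT0 t ht)).trans (le_of_eq (smul_eq_mul _ _))
    omega
  obtain ⟨hxU, hxx⟩ := hv θ hθ
  obtain ⟨r, hr⟩ := even_sp hF hq hσ hxx
  obtain ⟨P, Q, hP, hQ, hPQ⟩ := one_lt_card_iff.1 (show 1 < #(sp (col a + θ • col b)) by omega)
  obtain ⟨y, hyy, hyU, hy4, -, -⟩ := shrink hF hq hσ hM hph hn hodd hPQ _ _ rfl (by omega) hxx hxU hP hQ
  exact utIn_four hF hq hσ hM hph (by omega) hall hy4 hyy hyU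


end Cfsg.Agent.H36.SUOdd
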