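import Cfsg.Agent.H58.SUSmall.Zero

/-!
In odd dimension at least seven an overgroup of the monomial group has a non-monomial element with a zero entry.
-/

set_option autoImplicit false

namespace Cfsg.Agent.H36.SUOdd

open scoped MatrixGroups Matrix
open Finset Matrix Cfsg Cfsg.Agent.H95 Cfsg.Agent.Symplectic Cfsg.Agent.H63.UDec
open Cfsg.Agent.H58.SUSmall (mon_mul small_image)

variable {F : Type*} [Field F] {n q : ℕ} {σ : F ≃+* F}

/-- the pair involution of an enumeration by pairs and one point -/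
def sw {m : ℕ} (e : Option (Fin m × Fin 2) ≃ Fin n) : Equiv.Perm (Fin n) :=
  e.permCongr (Equiv.optionCongr (Equiv.prodCongrRight fun _ => Equiv.swap (0 : Fin 2) 1))

theorem sw_none {m : ℕ} (e : Option (Fin m × Fin 2) ≃ Fin n) : sw e (e none) = e none := by
  simp [sw, Equiv.permCongr_apply]

theorem sw_some {m : ℕ} (e : Option (Fin m × Fin 2) ≃ Fin n) (b : Fin m) (x : Fin 2) :
    sw e (e (some (b, x))) = e (some (b, Equiv.swap (0 : Fin 2) 1 x)) := by
  simp [sw, Equiv.permCongr_apply, Equiv.prodCongrRight]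

theorem sign_sw {m : ℕ} (e : Option (Fin m × Fin 2) ≃ Fin n) :
    Equiv.Perm.sign (sw e) = (-1) ^ m := by
  rw [sw, Equiv.Perm.sign_permCongr, Equiv.optionCongr_sign, Equiv.Perm.sign_prodCongrRight]
  simp [Finset.prod_const]

/-- the cross term of a pair -/
def crossTerm {m : ℕ} (σ : F ≃+* F) (e : Option (Fin m × Fin 2) ≃ Fin n) (X : Fin n → F) (b : Fin m) : F :=
  X (e (some (b, 1))) * σ (X (e (some (b, 0))))

/-- the weights of the swaps -/
def swc {m : ℕ} (σ : F ≃+* F) (e : Option (Fin m × Fin 2) ≃ Fin n) (X : Fin n → F) (p r : Fin m → F) (c : F)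
    (i : Fin n) : F :=
  match e.symm i with
  | none => c
  | some (b, x) => if x = 0 then p b else r b * (crossTerm σ e X b / σ (crossTerm σ e X b))

theorem swc_none {m : ℕ} (e : Option (Fin m × Fin 2) ≃ Fin n) (X : Fin n → F) (p r : Fin m → F) (c : F) :
    swc σ e X p r c (e none) = c := by
  simp [swc]

theorem swc_some {m : ℕ} (e : Option (Fin m × Fin 2) ≃ Fin n) (X : Fin n → F) (p r : Fin m → F) (c : F)
    (b : Fin m) (x : Fin 2) :
    swc σ e X p r c (e (some (b, x))) =
      if x = 0 then p b else r b * (crossTerm σ e X b / σ (crossTerm σ e X b)) := by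
  simp [swc]

/-- A product of weighted swaps and its value at `X`. -/
theorem exists_swaps (hf : Geo.IsUnitaryForm σ (hermForm n F q)) (hσ : ∀ x, σ x = x ^ q) {m : ℕ}
    (e : Option (Fin m × Fin 2) ≃ Fin n) {X : Fin n → F} (hX : ∀ i, X i ≠ 0) {p r : Fin m → F} {c : F}
    (hp : ∀ b, p b * σ (p b) = 1) (hr : ∀ b, r b * σ (r b) = 1) (hc : c * σ c = 1)
    (hdet : c * ∏ b, -(p b * r b * (crossTerm σ e X b / σ (crossTerm σ e X b))) = 1) :
    ∃ s : GL (Fin n) F, s ∈ isoGrp (hermForm n F q) ⊓ Geo.specialLinear (Fin n) F ∧ Mon s ∧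
      (∀ x i, ((s : Matrix (Fin n) (Fin n) F) *ᵥ x) i = swc σ e X p r c i * x (sw e i)) ∧
      hermForm n F q ((s : Matrix (Fin n) (Fin n) F) *ᵥ X) X =
        c * (X (e none) * σ (X (e none))) + ∑ b, crossTerm σ e X b * (p b + r b) := by
  classical
  have hu0 : ∀ b, crossTerm σ e X b ≠ 0 := fun b => mul_ne_zero (hX _) (by simpa using hX _)
  have hσu0 : ∀ b, σ (crossTerm σ e X b) ≠ 0 := fun b => by simpa using hu0 b
  have hcn : ∀ i, swc σ e X p r c i * σ (swc σ e X p r c i) = 1 := by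
    intro i
    obtain ⟨o, rfl⟩ := e.surjective i
    rcases o with _ | ⟨b, x⟩
    · rw [swc_none]; exact hc
    rw [swc_some]
    split_ifs
    · exact hp _
    · rw [map_mul, map_div₀, u_inv hf]
      have h1 := hr b
      have h2 := hu0 b
      have h3 := hσu0 b
      field_simp
      linear_combination h1
  set d : Fin n → Fˣ := fun i => Units.mk0 _ (ne_zero_of_norm (hcn i))
  have hap : ∀ x i, ((mp (sw e) d : Matrix (Fin n) (Fin n) F) *ᵥ x) i = swc σ e X p r c i * x (sw e i) :=
    fun x i => mp_apply _ _ _ _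
  refine ⟨mp (sw e) d, ⟨mp_iso hf hσ _ hcn, ?_⟩, mp_mon _ _, hap, ?_⟩
  · show mp (sw e) d ∈ Geo.specialLinear (Fin n) F
    rw [mem_specialLinear_iff, mp_det, sign_sw, ← e.prod_comp, Fintype.prod_option,
      Fintype.prod_prod_type]
    have hb : ∀ b, ∏ x : Fin 2, ((d (e (some (b, x))) : Fˣ) : F) =
        p b * r b * (crossTerm σ e X b / σ (crossTerm σ e X b)) := fun b => by
      rw [Fin.prod_univ_two]
      simp [d, swc_some, mul_assoc]
    rw [prod_congr rfl fun b _ => hb b, show ((d (e none) : Fˣ) : F) = c by simp [d, swc_none]]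
    rw [prod_neg, card_univ, Fintype.card_fin] at hdet
    push_cast
    linear_combination hdet
  · rw [herm_sum hσ, ← e.sum_comp, Fintype.sum_option, Fintype.sum_prod_type]
    congr 1
    · rw [hap, sw_none, swc_none, mul_assoc]
    refine sum_congr rfl fun b _ => ?_
    rw [Fin.sum_univ_two, hap, hap, sw_some, sw_some, Equiv.swap_apply_left, Equiv.swap_apply_right,
      swc_some, swc_some]
    simp only [if_true, show ¬ ((1 : Fin 2) = 0) from by decide, if_false]
    have h3 := hσu0 b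
    have h4 : σ (X (e (some (b, 1)))) * X (e (some (b, 0))) = σ (crossTerm σ e X b) := by
      simp only [crossTerm, map_mul, u_inv hf]
    simp only [crossTerm] at h3 h4 ⊢
    field_simp
    linear_combination (r b * (X (e (some (b, 1))) * σ (X (e (some (b, 0)))))) * h4

variable [Fintype F]

/-- Two cross terms can cancel a norm. -/
theorem exists_cancel (hF : Fintype.card F = q ^ 2) (hσ : ∀ x, σ x = x ^ q) (hinv : ∀ x, σ (σ x) = x)
    {u v N : F} (hu : u ≠ 0) (hv : v ≠ 0) (hN : σ N = N) (hN0 : N ≠ 0) :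
    ∃ p r p' r' : F, p * σ p = 1 ∧ r * σ r = 1 ∧ p' * σ p' = 1 ∧ r' * σ r' = 1 ∧
      u * (p + r) + v * (p' + r') + N = 0 ∧ p + r ≠ 0 := by
  classical
  set C := (cs σ).erase (-1)
  have hC : #C = q := by
    rw [card_erase_of_mem (mem_cs.2 (by simp)), card_cs hF hσ]; rfl
  have hne : ∀ l ∈ C, (1 : F) + l ≠ 0 := fun l hl h =>
    (mem_erase.1 hl).1 (by linear_combination h)
  have hq := Unitary.two_le_q hF
  obtain ⟨l0, hl0⟩ : C.Nonempty := card_pos.1 (by omega)
  set A := u * (1 + l0) with hA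
  have hA0 : A ≠ 0 := mul_ne_zero hu (hne l0 hl0)
  have hσA : σ A ≠ 0 := by simpa using hA0
  have hfix : ∀ x : F, x * σ x ∈ fx σ := fun x => mem_fx.2 (by rw [map_mul, hinv, mul_comm])
  set T := (cs σ).image fun l => (A * l + N) * σ (A * l + N)
  have hT : T ⊆ fx σ := fun y hy => by
    obtain ⟨l, -, rfl⟩ := mem_image.1 hy; exact hfix _
  have cT : q + 1 ≤ 2 * #T := by
    refine (card_cs hF hσ).ge.trans (card_le_mul_card_image _ 2 fun y hy => ?_)
    obtain ⟨l, hl, rfl⟩ := mem_image.1 hy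
    refine (card_le_card (t := {l, σ A / A * σ l}) fun k hk => ?_).trans card_le_two
    obtain ⟨hk, he⟩ := mem_filter.1 hk
    have h1 := mem_cs.1 hl
    have h2 := mem_cs.1 hk
    simp only [map_add, map_mul, hN] at he
    have e1 : N * (A * k + σ A * σ k - A * l - σ A * σ l) = 0 := by
      linear_combination he - (A * σ A) * h2 + (A * σ A) * h1
    have e2 := (mul_eq_zero.1 e1).resolve_left hN0
    have e3 : (k - l) * (A * k - σ A * σ l) = 0 := by
      linear_combination k * e2 - σ A * h2 + σ A * h1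
    rcases mul_eq_zero.1 e3 with h | h
    · simp [sub_eq_zero.1 h]
    · have : k = σ A / A * σ l := by field_simp; linear_combination h
      simp [this]
  set S := C.image fun k => (v * (1 + k)) * σ (v * (1 + k))
  have hS : S ⊆ fx σ := fun y hy => by
    obtain ⟨l, -, rfl⟩ := mem_image.1 hy; exact hfix _
  have cS : q ≤ 2 * #S := by
    refine hC.ge.trans (card_le_mul_card_image _ 2 fun y hy => ?_)
    obtain ⟨l, hl, rfl⟩ := mem_image.1 hy
    refine (card_le_card (t := {l, σ l}) fun k hk => ?_).trans card_le_two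
    obtain ⟨hk, he⟩ := mem_filter.1 hk
    have h1 := mem_cs.1 (mem_of_mem_erase hl)
    have h2 := mem_cs.1 (mem_of_mem_erase hk)
    simp only [map_mul, map_add, map_one] at he
    have he' : (1 + k) * (1 + σ k) = (1 + l) * (1 + σ l) :=
      mul_left_cancel₀ (mul_ne_zero hv (by simpa using hv : σ v ≠ 0)) (by linear_combination he)
    have h3 : (k - l) * (k - σ l) = 0 := by
      linear_combination k * he' - (k + 1) * h2 + (k + 1) * h1
    rcases mul_eq_zero.1 h3 with h | h <;> simp [sub_eq_zero.1 h]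
  obtain ⟨y, hy⟩ := inter_nonempty_of_card_lt_card_add_card hS hT (by rw [card_fx hF hσ]; omega)
  obtain ⟨k, hk, rfl⟩ := mem_image.1 (mem_inter.1 hy).1
  obtain ⟨l, hl, he⟩ := mem_image.1 (mem_inter.1 hy).2
  set B := v * (1 + k) with hB
  have hB0 : B ≠ 0 := mul_ne_zero hv (hne k hk)
  have hσB : σ B ≠ 0 := by simpa using hB0
  have hl1 := mem_cs.1 hl
  have hl01 := mem_cs.1 (mem_of_mem_erase hl0)
  have hk1 := mem_cs.1 (mem_of_mem_erase hk)
  set μ := -((A * l + N) / B) with hμ
  have hμ1 : μ * σ μ = 1 := by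
    rw [hμ, map_neg, map_div₀]
    field_simp
    linear_combination he
  refine ⟨l, l * l0, μ, μ * k, hl1, by rw [map_mul σ l]; linear_combination (l0 * σ l0) * hl1 + hl01,
    hμ1, by rw [map_mul σ μ]; linear_combination (k * σ k) * hμ1 + hk1, ?_, ?_⟩
  · have : μ * B = -(A * l + N) := by rw [hμ, neg_mul, div_mul_cancel₀ _ hB0]
    rw [hB] at this
    rw [hA] at this
    linear_combination this
  · rw [show l + l * l0 = l * (1 + l0) by ring]
    exact mul_ne_zero (ne_zero_of_norm hl1) (hne l0 hl0)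

/-- An overgroup of the monomial group has a non-monomial element with a zero entry. -/
theorem exists_zero (hf : Geo.IsUnitaryForm σ (hermForm n F q)) (hF : Fintype.card F = q ^ 2)
    (hσ : ∀ x, σ x = x ^ q) {m : ℕ} (hm : 3 ≤ m) (hn : n = m * 2 + 1)
    {M : Subgroup (GL (Fin n) F)} (hM : M ≤ isoGrp (hermForm n F q))
    (hmon : HasMon (hermForm n F q) M) {g : GL (Fin n) F} (hg : g ∈ M) (hg' : ¬ Mon g) :
    ∃ y ∈ M, ¬ Mon y ∧ ∃ j z, ((y : Matrix (Fin n) (Fin n) F) *ᵥ Pi.single j 1) z = 0 := by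
  classical
  have hgi : ¬ Mon g⁻¹ := fun h => hg' (mon_inv hf hσ (hM hg) h)
  by_contra hcon
  push Not at hcon
  set k : Fin n := ⟨0, by omega⟩
  set X := ((g⁻¹ : GL (Fin n) F) : Matrix (Fin n) (Fin n) F) *ᵥ Pi.single k 1
  have hX : ∀ i, X i ≠ 0 := hcon g⁻¹ (M.inv_mem hg) hgi k
  set e : Option (Fin m × Fin 2) ≃ Fin n := Fintype.equivFinOfCardEq (by simp; omega)
  set b1 : Fin m := ⟨0, by omega⟩
  obtain ⟨b2, -, hb2⟩ := exists_mem_notMem_of_card_lt_card (s := ({b1} : Finset (Fin m))) (t := univ)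
    (by rw [card_singleton, card_univ, Fintype.card_fin]; omega)
  rw [Finset.mem_singleton] at hb2
  obtain ⟨b0, -, hb0⟩ := exists_mem_notMem_of_card_lt_card (s := ({b1, b2} : Finset (Fin m)))
    (t := univ) (by rw [card_univ, Fintype.card_fin]; exact lt_of_le_of_lt card_le_two (by omega))
  simp only [Finset.mem_insert, Finset.mem_singleton, not_or] at hb0
  set u := fun b => crossTerm σ e X b with hu
  have hu0 : ∀ b, u b ≠ 0 := fun b => mul_ne_zero (hX _) ((_root_.map_ne_zero σ).2 (hX _))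
  obtain ⟨P, R, P', R', hP, hR, hP', hR', hzero, hne⟩ :=
    exists_cancel hF hσ (fun x => u_inv hf x) (hu0 b1) (hu0 b2) (N := X (e none) * σ (X (e none)))
      (by rw [map_mul, u_inv hf, mul_comm]) (mul_ne_zero (hX _) ((_root_.map_ne_zero σ).2 (hX _)))
  set φ := fun b => u b / σ (u b)
  have hφ : ∀ b, φ b * σ (φ b) = 1 := fun b => by
    have := (_root_.map_ne_zero σ).2 (hu0 b)
    have := hu0 b
    simp only [φ, map_div₀, u_inv hf]
    field_simp
  set rest := (univ.erase b1).erase b2 with hrest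
  set T : F := -(P * R * φ b1) * -(P' * R' * φ b2) * ∏ b ∈ rest, φ b
  have hT : T * σ T = 1 := by
    have h : ∀ x y : F, x * σ x = 1 → y * σ y = 1 → (x * y) * σ (x * y) = 1 := fun x y hx hy => by
      rw [map_mul, mul_mul_mul_comm, hx, hy, one_mul]
    have hn : ∀ x : F, x * σ x = 1 → -x * σ (-x) = 1 := fun x hx => by rw [map_neg, neg_mul_neg, hx]
    refine h _ _ (h _ _ (hn _ (h _ _ (h _ _ hP hR) (hφ _))) (hn _ (h _ _ (h _ _ hP' hR') (hφ _)))) ?_
    simp only [map_prod, ← prod_mul_distrib, hφ, prod_const_one]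
  have hT0 := ne_zero_of_norm hT
  set ν := T⁻¹
  have hν : ν * σ ν = 1 := by simp only [ν, map_inv₀, ← mul_inv, hT, inv_one]
  have hν0 := ne_zero_of_norm hν
  set c := T ^ 2
  have hc : c * σ c = 1 := by simp only [c, map_pow, ← mul_pow, hT, one_pow]
  set p : Fin m → F := fun b => if b = b1 then ν * P else if b = b2 then ν * P' else if b = b0 then c else 1
  set r : Fin m → F := fun b => if b = b1 then ν * R else if b = b2 then ν * R' else -p b
  have hmn : ∀ x : F, x * σ x = 1 → ν * x * σ (ν * x) = 1 := fun x hx => by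
    rw [map_mul, mul_mul_mul_comm, hν, hx, one_mul]
  have hp : ∀ b, p b * σ (p b) = 1 := fun b => by
    simp only [p]; split_ifs <;> first | assumption | exact hmn _ ‹_› | simp
  have hr : ∀ b, r b * σ (r b) = 1 := fun b => by
    simp only [r]; split_ifs
    · exact hmn _ hR
    · exact hmn _ hR'
    · rw [map_neg, neg_mul_neg, hp]
  have hrestm : ∀ b ∈ rest, b ≠ b1 ∧ b ≠ b2 := fun b hb =>
    ⟨(mem_erase.1 (mem_erase.1 hb).2).1, (mem_erase.1 hb).1⟩
  have hsplit : ∀ (f : Fin m → F), ∏ b, f b = f b1 * (f b2 * ∏ b ∈ rest, f b) := fun f => by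
    rw [hrest, mul_prod_erase _ f (mem_erase.2 ⟨hb2, mem_univ _⟩), mul_prod_erase _ f (mem_univ _)]
  have hdet : ν * ∏ b, -(p b * r b * φ b) = 1 := by
    rw [hsplit, prod_congr rfl (g := fun b => p b ^ 2 * φ b) fun b hb => by
      simp only [r, if_neg (hrestm b hb).1, if_neg (hrestm b hb).2]
      ring, prod_mul_distrib, prod_pow]
    have hpc : ∏ b ∈ rest, p b = c := by
      rw [prod_eq_single b0 (fun b hb hb' => by
          simp only [p, if_neg (hrestm b hb).1, if_neg (hrestm b hb).2, if_neg hb'])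
        (fun h => absurd (mem_erase.2 ⟨hb0.2, mem_erase.2 ⟨hb0.1, mem_univ _⟩⟩) h)]
      simp only [p, if_neg hb0.1, if_neg hb0.2, if_true]
    rw [hpc]
    simp only [p, r, if_true, if_neg hb2]
    calc _ = (ν * T) ^ 5 := by simp only [c, T]; ring
      _ = 1 := by rw [inv_mul_cancel₀ hT0, one_pow]
  have hval : ν * (X (e none) * σ (X (e none))) + ∑ b, u b * (p b + r b) = 0 := by
    rw [sum_eq_add b1 b2 (Ne.symm hb2) (fun b _ hb => by
      simp only [r, if_neg hb.1, if_neg hb.2, add_neg_cancel, mul_zero])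
      (fun h => absurd (mem_univ _) h) (fun h => absurd (mem_univ _) h)]
    simp only [p, r, if_true, if_neg hb2]
    linear_combination ν * hzero
  -- a pair whose weights differ
  obtain ⟨bs, hbs⟩ : ∃ bs, p bs ≠ r bs := by
    by_cases h2 : (2 : F) = 0
    · refine ⟨b1, ?_⟩
      simp only [p, r, if_true]
      exact fun h => hne (by rw [mul_left_cancel₀ hν0 h]; linear_combination R * h2)
    · refine ⟨b0, ?_⟩
      simp only [r, if_neg hb0.1, if_neg hb0.2]
      exact fun h => h2 ((mul_eq_zero.1 (show (2 : F) * p b0 = 0 by linear_combination h)).resolve_right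
        (ne_zero_of_norm (hp b0)))
  set p2 : Fin m → F := fun b => if b = bs then r b else p b
  set r2 : Fin m → F := fun b => if b = bs then p b else r b
  have hp2 : ∀ b, p2 b * σ (p2 b) = 1 := fun b => by simp only [p2]; split_ifs <;> simp [hp, hr]
  have hr2 : ∀ b, r2 b * σ (r2 b) = 1 := fun b => by simp only [r2]; split_ifs <;> simp [hp, hr]
  have hmul2 : ∀ b, p2 b * r2 b = p b * r b := fun b => by
    simp only [p2, r2]; split_ifs <;> ring
  have hadd2 : ∀ b, p2 b + r2 b = p b + r b := fun b => by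
    simp only [p2, r2]; split_ifs <;> ring
  obtain ⟨s1, hs1, hm1, ha1, hv1⟩ := exists_swaps hf hσ e hX hp hr hν (by simpa [u, φ] using hdet)
  obtain ⟨s2, hs2, hm2, ha2, hv2⟩ := exists_swaps hf hσ e hX hp2 hr2 hν
    (by simpa [u, φ, hmul2] using hdet)
  have hy : ∀ s : GL (Fin n) F, s ∈ M →
      hermForm n F q ((s : Matrix (Fin n) (Fin n) F) *ᵥ X) X = 0 → Mon (g * s * g⁻¹) := by
    intro s hs h0
    by_contra hno
    refine hcon _ (M.mul_mem (M.mul_mem hg hs) (M.inv_mem hg)) hno k k ?_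
    rw [mul_mulVec, mul_mulVec, ← herm_single_right' hσ (_ *ᵥ _) k,
      ← mem_isoGrp.1 (Subgroup.inv_mem _ (hM hg)), inv_mulVec_mulVec]
    exact h0
  have h1 := hy s1 (hmon s1 hs1 hm1) (hv1.trans hval)
  have h2 := hy s2 (hmon s2 hs2 hm2) (hv2.trans (by simpa only [hadd2] using hval))
  have h1' : Mon (g * s1 * g⁻¹)⁻¹ := mon_inv hf hσ
    (Subgroup.inv_mem _ (hM (M.mul_mem (M.mul_mem hg (hmon s1 hs1 hm1)) (M.inv_mem hg))))
    (by rwa [inv_inv])
  set D := g * (s2 * s1⁻¹) * g⁻¹ with hDdef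
  have hD : Mon D := by
    rw [show D = g * s2 * g⁻¹ * (g * s1 * g⁻¹)⁻¹ by rw [hDdef]; group]
    exact mon_mul h2 h1'
  set c1 := swc σ e X p r ν with hc1def
  set c2 := swc σ e X p2 r2 ν with hc2def
  have hc1 : ∀ i, c1 i ≠ 0 := fun i h => by
    have e1 := congrFun (mulVec_inv_mulVec s1 (Pi.single i (1 : F))) i
    simp only [ha1] at e1
    rw [h, zero_mul, Pi.single_eq_same] at e1
    exact zero_ne_one e1
  have ht : ∀ x i, ((((s2 * s1⁻¹ : GL (Fin n) F)) : Matrix (Fin n) (Fin n) F) *ᵥ x) i =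
      c2 i / c1 i * x i := by
    intro x i
    rw [mul_mulVec, ha2]
    conv_rhs => rw [← mulVec_inv_mulVec s1 x, ha1]
    rw [← mul_assoc, div_mul_cancel₀ _ (hc1 i)]
  have hout : ∀ i, (∀ x, i ≠ e (some (bs, x))) → c2 i = c1 i := fun i hi => by
    obtain ⟨o, rfl⟩ := e.surjective i
    rcases o with _ | ⟨b, x⟩
    · simp only [c1, c2, swc_none]
    have hb : b ≠ bs := fun h => hi x (by rw [h])
    simp only [c1, c2, swc_some, p2, r2, if_neg hb]
  set a := e (some (bs, 0))
  set b := e (some (bs, 1))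
  set R2 := Submodule.span F ({(g : Matrix (Fin n) (Fin n) F) *ᵥ Pi.single a 1,
    (g : Matrix (Fin n) (Fin n) F) *ᵥ Pi.single b 1} : Set (Fin n → F))
  have hDx : ∀ x, (D : Matrix (Fin n) (Fin n) F) *ᵥ x - x = (g : Matrix (Fin n) (Fin n) F) *ᵥ
      fun i => (c2 i / c1 i - 1) * (((g⁻¹ : GL (Fin n) F) : Matrix (Fin n) (Fin n) F) *ᵥ x) i := by
    intro x
    rw [hDdef, mul_mulVec, mul_mulVec]
    conv_lhs => arg 2; rw [← mulVec_inv_mulVec g x]
    rw [← mulVec_sub]
    congr 1
    funext i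
    rw [Pi.sub_apply, ht]
    ring
  have hR2 : ∀ x, (D : Matrix (Fin n) (Fin n) F) *ᵥ x - x ∈ R2 := by
    intro x
    rw [hDx]
    set v := fun i => (c2 i / c1 i - 1) * (((g⁻¹ : GL (Fin n) F) : Matrix (Fin n) (Fin n) F) *ᵥ x) i
    have hv : v = v a • Pi.single a 1 + v b • Pi.single b 1 := by
      have hab : a ≠ b := fun h => by simpa using e.injective h
      funext i
      simp only [Pi.add_apply, Pi.smul_apply, smul_eq_mul, Pi.single_apply]
      rcases eq_or_ne i a with rfl | hia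
      · simp [hab]
      rcases eq_or_ne i b with rfl | hib
      · simp [hia]
      · have : ∀ x, i ≠ e (some (bs, x)) := by
          intro x
          fin_cases x
          · exact hia
          · exact hib
        simp [v, hout i this, hc1 i, hia, hib]
    rw [hv, mulVec_add, mulVec_smul, mulVec_smul]
    exact Submodule.add_mem _ (Submodule.smul_mem _ _ (Submodule.subset_span (Or.inl rfl)))
      (Submodule.smul_mem _ _ (Submodule.subset_span (Or.inr rfl)))
  have hca : c2 a / c1 a - 1 ≠ 0 := by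
    rw [sub_ne_zero, Ne, div_eq_one_iff_eq (hc1 a)]
    simp only [c1, c2, a, swc_some, p2, if_true]
    exact Ne.symm hbs
  have hfin : Module.finrank F R2 ≤ 2 := by
    have := finrank_span_finset_le_card (R := F)
      ({(g : Matrix (Fin n) (Fin n) F) *ᵥ Pi.single a 1,
        (g : Matrix (Fin n) (Fin n) F) *ᵥ Pi.single b 1} : Finset (Fin n → F))
    rw [Finset.coe_insert, Finset.coe_singleton] at this
    exact this.trans Finset.card_le_two
  have hsmall := (small_image hD hR2 ((g : Matrix (Fin n) (Fin n) F) *ᵥ Pi.single a 1)).trans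
    (Nat.mul_le_mul_right _ hfin)
  have hfull : sp ((D : Matrix (Fin n) (Fin n) F) *ᵥ ((g : Matrix (Fin n) (Fin n) F) *ᵥ Pi.single a 1) -
      (g : Matrix (Fin n) (Fin n) F) *ᵥ Pi.single a 1) = univ := by
    refine eq_univ_of_forall fun i => mem_sp.2 ?_
    rw [hDx, inv_mulVec_mulVec, show (fun i => (c2 i / c1 i - 1) * (Pi.single a (1 : F) : Fin n → F) i) =
      (c2 a / c1 a - 1) • Pi.single a 1 from funext fun i => by
        rcases eq_or_ne i a with rfl | hi <;> simp [*], mulVec_smul, Pi.smul_apply, smul_eq_mul]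
    exact mul_ne_zero hca (hcon g hg hg' a i)
  rw [hfull, card_univ, Fintype.card_fin] at hsmall
  omega

end Cfsg.Agent.H36.SUOdd
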